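import Cfsg.Agent.GAL.TR.Abs
import Cfsg.Agent.ODD.PS.SL2
import Cfsg.Agent.H670.SL2Vals
import Cfsg.Agent.H906.SL2Real
import Cfsg.Agent.H426.SL2Orders
import Cfsg.Agent.H829.GowDesc
import Cfsg.Agent.H910.Inv.Sl
import Cfsg.Agent.ClassicalGeometry.SLTwoFour
import Cfsg.Agent.Blocks.CentralizerSum
import Cfsg.Agent.S1152
import Cfsg.Agent.S1157

/-!
# GAL: the Ree groups `²G₂(q)` have a moved character of odd degree (helper83)

* `exists_th` : the data `Th` for `PSL₂(q)`, `q` an odd power of three;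
* `moved_of_psl` : `C(u) ≅ C₂ × PSL₂(q)`;  `moved_ree`.
-/

set_option autoImplicit false

namespace Cfsg.Agent.GAL.TR

open Cfsg Matrix Cfsg.Agent.Characters Cfsg.Agent.Characters.Core Cfsg.Agent.TAB.Use Cfsg.Agent.H670
  Cfsg.Agent.H670.SL2 Cfsg.Agent.H670.RankOne Cfsg.Agent.ODD.PS.S2
open scoped ComplexConjugate

section

variable {F : Type} [Field F] [Fintype F] [CharP F 3]

omit [Fintype F] in
theorem three_eq : (3 : F) = 0 := by exact_mod_cast CharP.cast_eq_zero F 3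

omit [Fintype F] in
theorem two_ne : (2 : F) ≠ 0 := fun h => one_ne_zero (by linear_combination three_eq (F := F) - h : (1 : F) = 0)

/-- the characters of odd degree are trivial on the centre -/
theorem odd_cent {ψ : SpecialLinearGroup (Fin 2) F → ℂ} (hψ : IsIrrCharacter _ ψ) (ho : Odd (charDegree ψ))
    {z : SpecialLinearGroup (Fin 2) F} (hz : z ∈ Subgroup.center _) (s : SpecialLinearGroup (Fin 2) F) :
    ψ (z * s) = ψ s := by
  obtain ⟨r, hr, h1⟩ := Matrix.SpecialLinearGroup.mem_center_iff.1 hz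
  have hzz : z * z = 1 := by
    apply Subtype.ext
    rw [Fintype.card_fin, pow_two] at hr
    show z.1 * z.1 = 1
    rw [← h1, ← map_mul, hr, map_one]
  rcases ClassicalGeometry.SLTwoFour.eq_one_or_neg_one_of_mul_self two_ne z hzz with rfl | rfl
  · rw [one_mul]
  obtain ⟨c, -, hc⟩ := Blocks.CentralizerSum.exists_central_scalar hψ hz
  have h2 : (-1 : SpecialLinearGroup (Fin 2) F) * wel * wel = 1 := by
    apply Subtype.ext
    simp [coe_wel, Matrix.one_fin_two]
  obtain ⟨g, hg⟩ := H906.SL2_conj_inv (wel : SpecialLinearGroup (Fin 2) F) (by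
    show (e00 wel + e11 wel) ^ 2 - 4 ≠ 0
    rw [wel00, wel11]
    exact fun h => one_ne_zero (by linear_combination -h - three_eq (F := F) : (1 : F) = 0))
  have h3 := hc wel
  rw [eq_inv_of_mul_eq_one_left h2, ← hg, isIrr_isClassFunction hψ] at h3
  have h4 : ψ wel ≠ 0 := fun h4 => by
    have h5 := Lib.SchurBound.dvd_sub_of_pow (isIrr_isCharacter hψ) Nat.prime_two (k := 2) (g := wel) (c := 0)
      (by
        have h6 : (wel : SpecialLinearGroup (Fin 2) F) * wel = -1 := by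
          rw [mul_assoc] at h2
          rw [eq_inv_of_mul_eq_one_right h2, eq_comm, eq_inv_iff_mul_eq_one, hzz]
        rw [show 2 ^ 2 = 2 * 2 from rfl, pow_mul, pow_two wel, h6, pow_two, hzz])
      (Blocks.Basic.irr_one_eq_charDegree hψ) (by rw [h4, Int.cast_zero])
    obtain ⟨k, hk⟩ := ho
    omega
  rw [hc, mul_right_cancel₀ h4 (h3.symm.trans (one_mul _).symm), one_mul]

/-- `Sig` acts on the characters of odd degree as the complex conjugation -/
theorem sig_conj (hF : Odd (Fintype.card F)) {ψ : SpecialLinearGroup (Fin 2) F → ℂ} (hψ : IsIrrCharacter _ ψ)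
    (ho : Odd (charDegree ψ)) {σ : ℂ ≃+* ℂ} (hσ : Sig σ) (g : SpecialLinearGroup (Fin 2) F) :
    σ (ψ g) = conj (ψ g) := by
  have h1 := eq_of_x hF hψ (isIrr_conj (GaloisIrr.isIrr_map σ hψ)) ho fun s => by
    have h2 : x s ^ 3 = 1 := by
      rw [x_pow, CharP.cast_eq_zero, zero_mul]
      exact (data F).X_zero
    have h3 := GaloisBasic.map_apply (σ : ℂ →+* ℂ) (hσ.2 3 · (by decide)) (isIrr_isCharacter hψ) (by decide) h2
    show conj (σ (ψ (x s))) = _
    rw [show σ (ψ (x s)) = _ from h3, ← isCharacter_apply_inv (isIrr_isCharacter hψ),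
      ← eq_inv_of_mul_eq_one_left ((pow_succ' _ 2).symm.trans h2)]
  exact (Complex.conj_conj _).symm.trans (congrArg conj (congrFun h1 g))

omit [CharP F 3] in
theorem n_conj (χ : IrrCharacter (SpecialLinearGroup (Fin 2) F)) (c : F) :
    (data F).n ⟨_, isIrr_conj χ.2⟩ c = (data F).n χ (-c) := by
  have h1 := congrArg conj ((data F).cf_eq_n χ (-c))
  rw [map_natCast, Data.cf_def, four_def, map_mul, map_inv₀, map_natCast, map_sum] at h1
  rw [Data.n_eq_iff, ← h1, Data.cf_def, four_def]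
  refine congrArg _ (Finset.sum_congr rfl fun s _ => ?_)
  rw [map_mul, psi_conj, mul_neg, neg_neg]

/-- **The data for `PSL₂(q)`.** -/
theorem exists_th [Fintype (ProjectiveSpecialLinearGroup (Fin 2) F)] (h4 : Fintype.card F % 4 = 3) :
    ∃ θ θ₀ : ProjectiveSpecialLinearGroup (Fin 2) F → ℂ, Th θ θ₀ := by
  classical
  have := finite_irr (G := SpecialLinearGroup (Fin 2) F)
  have := Fintype.ofFinite (IrrCharacter (SpecialLinearGroup (Fin 2) F))
  obtain ⟨r, hq⟩ : ∃ r, Fintype.card F = 2 * (2 * r + 1) + 1 := ⟨Fintype.card F / 4, by omega⟩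
  have hF : Odd (Fintype.card F) := ⟨_, hq⟩
  have hnu : ¬ IsSquare (-1 : F) := fun h => FiniteField.isSquare_neg_one_iff.1 h h4
  obtain ⟨-, -, -, -, c5, -, c7, -⟩ := counts hnu hq
  obtain ⟨St, hSt⟩ := Finset.card_pos.1 (c5.symm ▸ one_pos : 0 < N (-1 : F) (1, 1, 1))
  obtain ⟨φ, hφ⟩ := Finset.card_pos.1 (c7.symm ▸ one_pos : 0 < N (-1 : F) (0, 1, 0))
  replace hSt := (Finset.mem_filter.1 hSt).2
  replace hφ := (Finset.mem_filter.1 hφ).2
  obtain ⟨φ', hφφ, hφ'⟩ : ∃ φ' : IrrCharacter (SpecialLinearGroup (Fin 2) F),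
      (∀ g, φ'.1 g = conj (φ.1 g)) ∧ ty (-1) φ' = (0, 0, 1) := by
    refine ⟨⟨_, isIrr_conj φ.2⟩, fun _ => rfl, ?_⟩
    simp only [ty, Prod.mk.injEq] at hφ ⊢
    rw [n_conj, n_conj, n_conj, neg_zero, neg_neg]
    exact ⟨hφ.1, hφ.2.2, hφ.2.1⟩
  have h1 := ty_triv (F := F) (nu := -1) (neg_ne_zero.2 one_ne_zero)
  have oSt : Odd (charDegree St.1) := by rw [deg_ty hnu St hq, hSt]; exact ⟨2 * r + 1, by simp only; omega⟩
  have oφ : Odd (charDegree φ.1) := by rw [deg_ty hnu φ hq, hφ]; exact ⟨r, by simp only; omega⟩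
  have oφ' : Odd (charDegree φ'.1) := by rw [deg_ty hnu φ' hq, hφ']; exact ⟨r, by simp only; omega⟩
  have o1 : Odd (charDegree (triv (F := F)).1) := by rw [deg_ty hnu triv hq, h1]; exact ⟨0, by simp only; omega⟩
  have hin : ∀ χ ψ : IrrCharacter (SpecialLinearGroup (Fin 2) F), Odd (charDegree χ.1) →
      classInner χ.1 ψ.1 = if ty (-1) ψ = ty (-1) χ then 1 else 0 := fun χ ψ ho => by
    rw [classInner_irr χ.2 ψ.2]
    exact if_congr ⟨fun h => by rw [Subtype.ext h], fun h => by rw [eq_of_ty hnu ho h]⟩ rfl rfl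
  have ha : ∀ ψ : IrrCharacter (SpecialLinearGroup (Fin 2) F), classInner (φ.1 - φ'.1) ψ.1 =
      (if ty (-1) ψ = (0, 1, 0) then 1 else 0) - if ty (-1) ψ = (0, 0, 1) then 1 else 0 := fun ψ => by
    rw [classInner_sub_left, hin _ _ oφ, hin _ _ oφ', hφ, hφ']
  have hb : ∀ ψ : IrrCharacter (SpecialLinearGroup (Fin 2) F), classInner (triv.1 + St.1) ψ.1 =
      (if ty (-1) ψ = (1, 0, 0) then 1 else 0) + if ty (-1) ψ = (1, 1, 1) then 1 else 0 := fun ψ => by
    rw [classInner_add_left, hin _ _ o1, hin _ _ oSt, h1, hSt]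
  let π := QuotientGroup.mk' (Subgroup.center (SpecialLinearGroup (Fin 2) F))
  have hπ : Function.Surjective π := QuotientGroup.mk'_surjective _
  have desc : ∀ χ : IrrCharacter (SpecialLinearGroup (Fin 2) F), Odd (charDegree χ.1) → ∀ s,
      χ.1 (Quotient.out (π s)) = χ.1 s := fun χ ho s => by
    obtain ⟨z, hz⟩ := QuotientGroup.mk_out_eq_mul (Subgroup.center (SpecialLinearGroup (Fin 2) F)) s
    rw [show Quotient.out (π s) = s * z from hz, Subgroup.mem_center_iff.1 z.2, odd_cent χ.2 ho z.2]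
  obtain ⟨θ, hθ⟩ : ∃ θ : ProjectiveSpecialLinearGroup (Fin 2) F → ℂ, θ ∘ π = φ.1 - φ'.1 :=
    ⟨fun y => φ.1 y.out - φ'.1 y.out, funext fun s => congrArg₂ _ (desc φ oφ s) (desc φ' oφ' s)⟩
  obtain ⟨θ₀, hθ₀⟩ : ∃ θ : ProjectiveSpecialLinearGroup (Fin 2) F → ℂ, θ ∘ π = triv.1 + St.1 :=
    ⟨fun y => triv.1 y.out + St.1 y.out, funext fun s => congrArg₂ _ (desc triv o1 s) (desc St oSt s)⟩
  have hv : ∀ s, θ (π s) = φ.1 s - conj (φ.1 s) := fun s => by rw [← hφφ]; exact congrFun hθ s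
  have hcl : IsClassFunction _ θ := fun y z => by
    obtain ⟨s, rfl⟩ := hπ y
    obtain ⟨t, rfl⟩ := hπ z
    rw [← map_inv, ← map_mul, ← map_mul, hv, hv, isIrr_isClassFunction φ.2]
  have inn := fun α β => (H829.GowDesc.classInner_comp_surj π hπ α β).symm
  refine ⟨θ, θ₀, hcl, fun y z => ?_, fun y hy => ?_, fun y hy => ?_, ?_, ?_, ?_, ?_, fun f hf => ?_, fun σ hσ y => ?_⟩
  · obtain ⟨s, rfl⟩ := hπ y
    obtain ⟨t, rfl⟩ := hπ z
    rw [← map_inv, ← map_mul, ← map_mul]
    refine (congrFun hθ₀ _).trans (Eq.trans ?_ (congrFun hθ₀ _).symm)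
    rw [Pi.add_apply, Pi.add_apply, isIrr_isClassFunction triv.2, isIrr_isClassFunction St.2]
  · have : Fact (Nat.Prime 3) := ⟨Nat.prime_three⟩
    rcases H906.PSL2_real_or_unip 3 y with ⟨z, hz⟩ | h
    · have h2 := hcl y z
      obtain ⟨s, rfl⟩ := hπ y
      rw [hz, ← map_inv, hv, isCharacter_apply_inv (isIrr_isCharacter φ.2), Complex.conj_conj, hv] at h2
      exact absurd (by rw [hv]; linear_combination (-1 / 2) * h2) hy
    · exact ⟨3, by decide, h⟩
  · obtain ⟨s, rfl⟩ := hπ y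
    have h2 := (eq_ind_sub_one St.2 (by rw [degree_eq_ty hnu St hq, hSt, hq]; push_cast; ring)).2.2
    have h3 : θ₀ (π s) = (data F).ind 1 s := (congrFun hθ₀ s).trans (by rw [h2]; exact add_sub_cancel _ _)
    obtain ⟨g, hg⟩ : ∃ g, g⁻¹ * s * g ∈ (data F).B := by
      by_contra hc
      exact hy (h3.trans ((data F).ind_of_notMem 1 fun g hg => hc ⟨g, hg⟩))
    have h5 : (g⁻¹ * s * g) ^ Nat.card (data F).B = 1 :=
      congrArg Subtype.val (pow_card_eq_one' (x := (⟨_, hg⟩ : (data F).B)))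
    rw [(data F).card_B, card_T, ← inv_inv g, inv_inv g⁻¹, conj_pow, mul_inv_eq_one, mul_eq_left] at h5
    refine ⟨Fintype.card F * (2 * r + 1), hF.mul ⟨r, rfl⟩, ?_⟩
    rw [← map_pow]
    refine (QuotientGroup.eq_one_iff _).2 (H426.sl2_sq_eq_one_mem_center two_ne _ ?_)
    rw [← pow_mul, ← h5]
    congr 1
    rw [mul_assoc, hq, Nat.add_sub_cancel, mul_comm 2]
  · rw [inn, hθ, classInner_sub_right, ha, ha, hφ, hφ']
    norm_num
  · rw [inn, hθ₀, classInner_add_right, hb, hb, h1, hSt]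
    norm_num
  · rw [inn, hθ]
    refine (ha triv).trans ?_
    rw [h1]
    norm_num
  · rw [inn, hθ₀]
    refine (hb triv).trans ?_
    rw [h1]
    norm_num
  · rw [inn, inn, hθ, hθ₀, ← map_one π]
    obtain ⟨m, hm⟩ := isGeneralizedCharacter_iff.1 (show IsGeneralizedCharacter _ (f ∘ π) by
      obtain ⟨α, β, hα, hβ, rfl⟩ := hf
      exact ⟨_, _, isCharacter_comp π hα, isCharacter_comp π hβ, rfl⟩)
    have h2 : ∀ ψ : IrrCharacter (SpecialLinearGroup (Fin 2) F), ∃ a b k : ℤ, classInner (φ.1 - φ'.1) ψ.1 = a ∧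
        classInner (triv.1 + St.1) ψ.1 = b ∧ ψ.1 1 = a + b + 2 * k := fun ψ => by
      rw [ha, hb, degree_eq_ty hnu ψ hq]
      have h3 := ty_mem hnu ψ
      generalize ty (-1 : F) ψ = t at h3
      simp only [tys, Finset.mem_insert, Finset.mem_singleton] at h3
      rcases h3 with rfl | rfl | rfl | rfl | rfl | rfl | rfl | rfl
      · exact ⟨0, 0, 2 * r + 2, by norm_num, by norm_num, by push_cast; ring⟩
      · exact ⟨0, 1, 0, by norm_num, by norm_num, by push_cast; ring⟩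
      · exact ⟨0, 0, r + 1, by norm_num, by norm_num, by push_cast; ring⟩
      · exact ⟨0, 0, r + 1, by norm_num, by norm_num, by push_cast; ring⟩
      · exact ⟨0, 1, 2 * r + 1, by norm_num, by norm_num, by push_cast; ring⟩
      · exact ⟨0, 0, 2 * r + 1, by norm_num, by norm_num, by push_cast; ring⟩
      · exact ⟨1, 0, r, by norm_num, by norm_num, by push_cast; ring⟩
      · exact ⟨-1, 0, r + 1, by norm_num, by norm_num, by push_cast; ring⟩
    choose a b k h3 h5 h6 using h2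
    refine ⟨∑ ψ, m ψ * a ψ, ∑ ψ, m ψ * b ψ, ∑ ψ, m ψ * k ψ, ?_, ?_, ?_⟩
    · rw [hm, classInner_sum_right, Int.cast_sum]
      refine Finset.sum_congr rfl fun ψ _ => ?_
      rw [← Int.cast_smul_eq_zsmul ℂ, classInner_smul_right, h3, map_intCast, Int.cast_mul]
    · rw [hm, classInner_sum_right, Int.cast_sum]
      refine Finset.sum_congr rfl fun ψ _ => ?_
      rw [← Int.cast_smul_eq_zsmul ℂ, classInner_smul_right, h5, map_intCast, Int.cast_mul]
    · refine (congrFun hm 1).trans ?_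
      push_cast
      rw [Finset.sum_apply, Finset.mul_sum, ← Finset.sum_add_distrib, ← Finset.sum_add_distrib]
      refine Finset.sum_congr rfl fun ψ _ => ?_
      rw [Pi.smul_apply, h6, zsmul_eq_mul]
      ring
  · obtain ⟨s, rfl⟩ := hπ y
    rw [hv, map_sub, sig_conj hF φ.2 oφ hσ, ← hφφ, sig_conj hF φ'.2 oφ' hσ, hφφ, Complex.conj_conj, neg_sub]

/-- **`C(u) ≅ C₂ × PSL₂(q)`, `q` an odd power of three.** -/
theorem moved_of_psl {G : Type*} [Group G] [Finite G] (h4 : Fintype.card F % 4 = 3) {u : G} (hu : u ≠ 1)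
    (e : Subgroup.centralizer ({u} : Set G) ≃* Multiplicative (ZMod 2) × ProjectiveSpecialLinearGroup (Fin 2) F) :
    OddMoved G := by
  have := Fintype.ofFinite G
  have := Fintype.ofFinite (ProjectiveSpecialLinearGroup (Fin 2) F)
  obtain ⟨θ, θ₀, H⟩ := exists_th (F := F) h4
  refine moved_of e ?_ H
  let c : Subgroup.centralizer ({u} : Set G) := ⟨u, Subgroup.mem_centralizer_singleton_iff.2 rfl⟩
  have h1 : (e c).2 = 1 := by
    refine Subgroup.mem_bot.1 (H910.Inv.center_psl (F := F) ▸ Subgroup.mem_center_iff.2 fun y => ?_)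
    have h2 : e.symm (1, y) * c = c * e.symm (1, y) :=
      Subtype.ext (Subgroup.mem_centralizer_singleton_iff.1 (e.symm (1, y)).2)
    have h3 := congrArg (fun z => (e z).2) h2
    simpa only [map_mul, e.apply_symm_apply, Prod.snd_mul] using h3
  have h2 : (e c).1 = g0 := (by decide : ∀ z : Multiplicative (ZMod 2), z ≠ 1 → z = g0) _ fun h =>
    hu (congrArg Subtype.val (e.map_eq_one_iff.1 (Prod.ext h h1)))
  rw [← h1, ← h2, Prod.mk.eta, e.symm_apply_apply]

end

theorem OddMoved.of_equiv {G H : Type*} [Group G] [Group H] (e : G ≃* H) (h : OddMoved H) : OddMoved G := by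
  obtain ⟨χ, h1, h2, h3⟩ := h
  refine ⟨χ ∘ e.toMonoidHom, isIrr_comp _ e.surjective h1, ?_, fun σ hσ h4 => h3 σ hσ fun g => ?_⟩
  · rwa [charDegree, Function.comp_apply, map_one]
  · obtain ⟨x, rfl⟩ := e.surjective g
    exact h4 x

/-- **The Ree groups.** -/
theorem moved_ree {S : Type*} [Group S] [Finite S] (h : Lie.IsoRee S) : OddMoved S := by
  obtain ⟨K, _, _, m, -, hK, ⟨e0⟩⟩ := h
  have := LieRecognition.ReeAbs.charP_three hK
  have := Finite.of_equiv _ e0.toEquiv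
  obtain ⟨a, haH, ha1, ha2⟩ := S1157.exists_involution hK
  obtain ⟨⟨e⟩, -⟩ := S1152.result hK a haH ha1 ha2
  exact OddMoved.of_equiv e0 (moved_of_psl (by rw [hK]; exact S1157.mod_four) ha1 e)

end Cfsg.Agent.GAL.TR
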