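import Cfsg.Agent.TAB.Use.Defs
import Cfsg.Agent.LargeExtra.W2.CharKill.ClassAlg
import Cfsg.Agent.OddOrderCharacters.InducedNormal
import Cfsg.Agent.Classification.QDW.NormBound
import Cfsg.Agent.Lib.SchurBound
import Cfsg.Agent.Blocks.Basic

/-!
# GAL: a moved character of odd degree from the centralizer `⟨u⟩ × L` of an involution (helper83)

* `Th θ θ₀` : two class functions of norm two on `L` which vanish on the elements of even order;
* `moved_of` : `C(u) = ⟨u⟩ × L` and `Th θ θ₀` give `OddMoved G`.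
-/

set_option autoImplicit false

namespace Cfsg.Agent.GAL.TR

open Cfsg Cfsg.Agent.Characters Cfsg.Agent.Characters.Core Cfsg.Agent.TAB.Use Cfsg.Agent.LargeExtra.W2.CharKill
open scoped ComplexConjugate

/-- the data on `L`; model: `θ = φ₁ - φ₂`, `θ₀ = 1 + St` -/
structure Th {L : Type*} [Group L] [Fintype L] (θ θ₀ : L → ℂ) : Prop where
  cl : IsClassFunction L θ
  cl₀ : IsClassFunction L θ₀
  supp : ∀ y, θ y ≠ 0 → ∃ m, Odd m ∧ y ^ m = 1
  supp₀ : ∀ y, θ₀ y ≠ 0 → ∃ m, Odd m ∧ y ^ m = 1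
  nn : classInner θ θ = 2
  nn₀ : classInner θ₀ θ₀ = 2
  one : classInner θ 1 = 0
  one₀ : classInner θ₀ 1 = 1
  par : ∀ f, IsGeneralizedCharacter L f → ∃ a b k : ℤ, classInner θ f = a ∧ classInner θ₀ f = b ∧ f 1 = a + b + 2 * k
  gal : ∀ σ, Sig σ → ∀ y, σ (θ y) = -θ y

/-- the arithmetic -/
theorem exists_odd_even {I : Type*} [Fintype I] {a b : I → ℤ} {d : I → ℂ} (ha : ∑ i, a i * a i = 4)
    (hb : ∑ i, b i * b i = 4) {o : I} (h0 : a o = 0) (h1 : b o = 1) (hd : ∀ i, d i ≠ 0) (hs : ∑ i, a i * d i = 0) :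
    ∃ i, Odd (a i) ∧ Even (b i) := by
  classical
  by_contra hc
  by_cases h2 : ∃ i, 4 ≤ a i * a i
  · obtain ⟨i, hi⟩ := h2
    rw [← Finset.add_sum_erase _ _ (Finset.mem_univ i)] at ha hs
    have h3 : ∀ j ∈ Finset.univ.erase i, 0 ≤ a j * a j := fun j _ => mul_self_nonneg _
    have h4 := (Finset.sum_eq_zero_iff_of_nonneg h3).1 (le_antisymm (by omega) (Finset.sum_nonneg h3))
    rw [Finset.sum_eq_zero fun j hj => by rw [mul_self_eq_zero.1 (h4 j hj), Int.cast_zero, zero_mul], add_zero] at hs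
    have h5 : a i = 0 := by exact_mod_cast (mul_eq_zero.1 hs).resolve_right (hd i)
    rw [h5] at hi
    omega
  · have h3 : ∀ i, a i * a i ≤ b i * b i := by
      intro i
      have h4 : a i * a i < 4 := not_le.1 fun h => h2 ⟨i, h⟩
      by_cases h5 : a i = 0
      · rw [h5, mul_zero]
        exact mul_self_nonneg _
      · have h6 : a i = 1 ∨ a i = -1 := by
          have : a i < 2 := by nlinarith
          have : -2 < a i := by nlinarith
          omega
        have h7 : b i ≠ 0 := fun h => hc ⟨i, by rcases h6 with h6 | h6 <;> rw [h6] <;> decide, by rw [h]; decide⟩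
        have h8 := mul_self_pos.2 h7
        rcases h6 with h6 | h6 <;> rw [h6] <;> omega
    have h4 := Finset.sum_lt_sum (s := Finset.univ) (fun i _ => h3 i) ⟨o, Finset.mem_univ _, by rw [h0, h1]; decide⟩
    omega

section

variable {C L : Type*} [Group C] [Group L] (e : C ≃* Multiplicative (ZMod 2) × L)

/-- the generator -/
def g0 : Multiplicative (ZMod 2) := Multiplicative.ofAdd 1

theorem g0_sq : ((g0, 1) : Multiplicative (ZMod 2) × L) * (g0, 1) = 1 :=
  Prod.ext (by decide : g0 * g0 = 1) (one_mul 1)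

open Classical in
/-- `(1 - ε) θ` -/
noncomputable def up (θ : L → ℂ) : C → ℂ := fun c => if (e c).1 = 1 then 0 else 2 * θ (e c).2

theorem up_g0 (θ : L → ℂ) (y : L) : up e θ (e.symm (g0, y)) = 2 * θ y := by
  rw [up, e.apply_symm_apply, if_neg (by decide : g0 ≠ 1)]

theorem up_cl {θ : L → ℂ} (h : IsClassFunction L θ) : IsClassFunction C (up e θ) := by
  intro g c
  have h1 : (e (c * g * c⁻¹)).1 = (e g).1 := by
    rw [map_mul, map_mul, map_inv, Prod.fst_mul, Prod.fst_mul, Prod.fst_inv, mul_inv_cancel_comm]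
  have h2 : θ (e (c * g * c⁻¹)).2 = θ (e g).2 := by
    rw [map_mul, map_mul, map_inv, Prod.snd_mul, Prod.snd_mul, Prod.snd_inv, h]
  rw [up, up, h1, h2]

theorem up_pow {θ : L → ℂ} (h : ∀ y, θ y ≠ 0 → ∃ m, Odd m ∧ y ^ m = 1) (c : C) (hc : up e θ c ≠ 0) :
    ∃ m, Odd m ∧ c ^ m = e.symm (g0, 1) := by
  have h1 : (e c).1 ≠ 1 := fun h1 => hc (if_pos h1)
  rw [up, if_neg h1] at hc
  obtain ⟨m, ⟨k, rfl⟩, hm⟩ := h _ (right_ne_zero_of_mul hc)
  refine ⟨_, ⟨k, rfl⟩, e.eq_symm_apply.2 ?_⟩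
  have h2 : ∀ z : Multiplicative (ZMod 2), z ≠ 1 → z ^ 2 = 1 ∧ z = g0 := by decide
  rw [map_pow]
  exact Prod.ext (by rw [Prod.pow_fst, pow_succ, pow_mul, (h2 _ h1).1, one_pow, one_mul, (h2 _ h1).2]) hm

theorem inner_up [Fintype C] [Fintype L] (θ : L → ℂ) (β : C → ℂ) :
    classInner (up e θ) β = classInner θ fun y => β (e.symm (g0, y)) := by
  have h1 : (Finset.univ : Finset (Multiplicative (ZMod 2))) = {1, g0} := by decide
  have h2 : Nat.card C = 2 * Nat.card L := by
    rw [Nat.card_congr e.toEquiv, Nat.card_prod, Nat.card_eq_fintype_card (α := Multiplicative (ZMod 2))]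
    rfl
  have h3 : (Nat.card L : ℂ) ≠ 0 := by exact_mod_cast Nat.card_pos.ne'
  rw [classInner_def, classInner_def, ← e.symm.toEquiv.sum_comp, Fintype.sum_prod_type, h1,
    Finset.sum_pair (by decide), Finset.sum_eq_zero, zero_add, h2]
  · simp only [MulEquiv.toEquiv_eq_coe, EquivLike.coe_coe, up_g0, mul_assoc, ← Finset.mul_sum]
    push_cast
    field_simp
  · intro y _
    simp only [MulEquiv.toEquiv_eq_coe, EquivLike.coe_coe]
    rw [up, e.apply_symm_apply, if_pos rfl, zero_mul]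

end

section

variable {G L : Type*} [Group G] [Fintype G] [Group L] [Fintype L] {u : G}
  (e : Subgroup.centralizer ({u} : Set G) ≃* Multiplicative (ZMod 2) × L) (hu : (e.symm (g0, 1) : G) = u)

include hu

omit [Fintype G] [Fintype L] in
theorem ti : TIset (Subgroup.centralizer ({u} : Set G)) fun c => ∃ m, Odd m ∧ c ^ m = e.symm (g0, 1) := by
  rintro g c c' ⟨m, hm, h1⟩ ⟨m', hm', h2⟩ h3
  have h4 : ∀ k, Odd k → e.symm (g0, 1) ^ k = e.symm (g0, 1) := by
    rintro _ ⟨k, rfl⟩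
    rw [← map_pow, pow_succ, pow_mul, pow_two, g0_sq, one_pow, one_mul]
  have h5 : (c : G) ^ (m * m') = u := by
    rw [← Subgroup.coe_pow, pow_mul, h1, h4 _ hm', hu]
  have h6 : (c' : G) ^ (m * m') = u := by
    rw [← Subgroup.coe_pow, mul_comm, pow_mul, h2, h4 _ hm, hu]
  rw [← h3, conj_pow, h5] at h6
  exact Subgroup.mem_centralizer_singleton_iff.2 (mul_inv_eq_iff_eq_mul.1 h6)

/-- the induced function -/
theorem exists_ind {θ : L → ℂ} (h : IsClassFunction L θ) (hs : ∀ y, θ y ≠ 0 → ∃ m, Odd m ∧ y ^ m = 1) :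
    ∃ A : G → ℂ, IsClassFunction G A ∧ A 1 = 0 ∧ classInner A A = classInner θ θ * 2 ∧
      ∀ χ, IsClassFunction G χ → classInner A χ = classInner θ fun y => χ (e.symm (g0, y)) := by
  classical
  refine ⟨indFun _ (up e θ), OddOrderCharacters.InducedNormal.indFun_isClassFunction _ _, ?_, ?_, fun χ hχ => ?_⟩
  · refine indFun_apply_eq_zero _ fun x c hc => if_pos ?_
    have : c = 1 := Subtype.ext (by rw [← hc, mul_one, mul_inv_cancel]; rfl)
    rw [this, map_one, Prod.fst_one]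
  · rw [classInner_indFun_indFun _ (ti e hu) (up_pow e hs) (up_cl e h) (up_pow e hs), inner_up]
    simp only [up_g0]
    rw [show (fun y => 2 * θ y) = θ + θ from funext fun y => two_mul _, classInner_add_right, mul_two]
  · rw [OddOrderCharacters.InducedNormal.frobenius _ _ _ hχ, inner_up]

/-- **A moved character of odd degree.** -/
theorem moved_of {θ θ₀ : L → ℂ} (H : Th θ θ₀) : OddMoved G := by
  classical
  have := finite_irr (G := G)
  have := Fintype.ofFinite (IrrCharacter G)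
  obtain ⟨A, hA, hA1, hAA, hAχ⟩ := exists_ind e hu H.cl H.supp
  obtain ⟨B, hB, -, hBB, hBχ⟩ := exists_ind e hu H.cl₀ H.supp₀
  let ι : L →* G := (Subgroup.subtype _).comp (e.symm.toMonoidHom.comp (MonoidHom.inr _ _))
  have hι : ∀ y, (e.symm (g0, y) : G) = u * ι y := fun y => by
    refine Eq.trans ?_ (congrArg (· * ι y) hu)
    show _ = ((e.symm (g0, 1) * e.symm (1, y) : Subgroup.centralizer ({u} : Set G)) : G)
    rw [← map_mul, Prod.mk_mul_mk, mul_one, one_mul]
  have huu : u * u = 1 := by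
    refine (congrArg₂ (· * ·) hu hu).symm.trans ?_
    show ((e.symm (g0, 1) * e.symm (g0, 1) : Subgroup.centralizer ({u} : Set G)) : G) = 1
    rw [← map_mul, g0_sq, map_one, Subgroup.coe_one]
  have hc : ∀ y, Commute u (ι y) := fun y =>
    (Subgroup.mem_centralizer_singleton_iff.1 (e.symm (1, y)).2).symm
  have hf := fun χ : IrrCharacter G => H.par _
    (Classification.QDW.NormBound.isGeneralized_along (e := ι) huu hc (isIrr_isCharacter χ.2))
  choose a b k ha hb hk using hf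
  simp only [hι] at hAχ hBχ
  have hAa : ∀ χ : IrrCharacter G, classInner A χ = a χ := fun χ => (hAχ _ (isIrr_isClassFunction χ.2)).trans (ha χ)
  have hBb : ∀ χ : IrrCharacter G, classInner B χ = b χ := fun χ => (hBχ _ (isIrr_isClassFunction χ.2)).trans (hb χ)
  rw [classInner_eq_sum hA hA, H.nn] at hAA
  rw [classInner_eq_sum hB hB, H.nn₀] at hBB
  simp only [hAa, hBb, map_intCast] at hAA hBB
  have hs := congrFun (classFunction_eq_sum hA) 1
  rw [hA1, Finset.sum_apply] at hs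
  simp only [hAa, Pi.smul_apply, smul_eq_mul] at hs
  obtain ⟨χ, h1, h2⟩ := exists_odd_even (a := a) (b := b) (d := fun χ : IrrCharacter G => (χ : G → ℂ) 1)
    (o := ⟨1, isIrr_one⟩) (by exact_mod_cast hAA.trans (by norm_num : (2 : ℂ) * 2 = 4))
    (by exact_mod_cast hBB.trans (by norm_num : (2 : ℂ) * 2 = 4)) (by exact_mod_cast (ha ⟨1, isIrr_one⟩).symm.trans H.one)
    (by exact_mod_cast (hb ⟨1, isIrr_one⟩).symm.trans H.one₀) (fun χ => isIrr_apply_one_ne_zero χ.2) hs.symm
  refine ⟨χ, χ.2, ?_, fun σ hσ hfix => ?_⟩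
  · have h3 := Lib.SchurBound.dvd_sub_of_pow (isIrr_isCharacter χ.2) Nat.prime_two (k := 1) (g := u)
      (by rw [pow_one, pow_two, huu]) (Blocks.Basic.irr_one_eq_charDegree χ.2) (c := a χ + b χ + 2 * k χ)
      (by have := hk χ; rw [map_one, mul_one] at this; rw [this]; push_cast; rfl)
    rw [← Int.odd_coe_nat]
    obtain ⟨r, hr⟩ := h1
    obtain ⟨s, hs⟩ := h2
    obtain ⟨t, ht⟩ := h3
    exact ⟨r + s + k χ + t, by push_cast at ht; omega⟩
  · have h3 := congrArg σ (ha χ)
    rw [map_intCast, classInner_def, map_mul, map_inv₀, map_natCast, map_sum] at h3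
    have h4 : ∀ y, σ (θ y * conj ((χ : G → ℂ) (u * ι y))) = -(θ y * conj ((χ : G → ℂ) (u * ι y))) := fun y => by
      rw [map_mul, H.gal σ hσ, ← isCharacter_apply_inv (isIrr_isCharacter χ.2), hfix, neg_mul]
    simp only [h4, Finset.sum_neg_distrib, mul_neg] at h3
    rw [← classInner_def, ha χ] at h3
    have h5 : -a χ = a χ := by exact_mod_cast h3
    obtain ⟨r, hr⟩ := h1
    omega

end

end Cfsg.Agent.GAL.TR
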